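import Groth.Agent.Lib.AVAmple
import Groth.Agent.H23.TopDim
import Groth.Agent.S1664
import Groth.Agent.QCoh.Support
import Groth.Agent.CurveBC.Coh

/-! Globally generated invertible modules that are nontrivial on every curve are ample. -/

noncomputable section

set_option linter.style.haveILetI false
set_option backward.isDefEq.respectTransparency false
set_option backward.isDefEq.respectTransparency.types false

universe u

open CategoryTheory CategoryTheory.Limits AlgebraicGeometry TopologicalSpace

namespace Groth.Agent.GGAmple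

open Groth.Agent

theorem withBot_le_zero : ∀ a : WithBot ℕ∞, a < 1 → a ≤ 0
  | ⊥, _ => bot_le
  | (b : ℕ∞), h => by
    have : b < 1 := WithBot.coe_lt_coe.1 h
    exact WithBot.coe_le_coe.2 (le_of_eq (ENat.lt_one_iff_eq_zero.1 this))

/-- An infinite closed subset of a noetherian Jacobson sober space contains an irreducible curve. -/
theorem exists_curve {X : Scheme.{u}} [NoetherianSpace X] [JacobsonSpace X] {Z : Set X} (hZ : IsClosed Z)
    (hinf : Z.Infinite) : ∃ T : Set X, T ⊆ Z ∧ IsClosed T ∧ IsIrreducible T ∧ topologicalKrullDim T = 1 := by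
  let P : Closeds X → Prop := fun T => (T : Set X) ⊆ Z ∧ IsIrreducible (T : Set X) ∧ (T : Set X).Infinite
  have hne : ∃ T, P T := by
    obtain ⟨S, hS, hirr, hK⟩ := NoetherianSpace.exists_finite_set_closeds_irreducible (⟨Z, hZ⟩ : Closeds X)
    by_contra hno
    push Not at hno
    refine hinf ((hS.biUnion (t := fun t : Closeds X => (t : Set X)) fun t ht => ?_).subset fun x hx => ?_)
    · by_contra ht'
      exact hno t ⟨fun y hy => (show t ≤ ⟨Z, hZ⟩ from hK ▸ le_sSup ht) hy, hirr t ht, ht'⟩
    · have hx' : x ∈ ((sSup S : Closeds X) : Set X) := hK ▸ hx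
      rw [Closeds.coe_sSup, Set.sUnion_image, (hS.isClosed_biUnion fun t _ => t.isClosed).closure_eq] at hx'
      exact hx'
  obtain ⟨T, ⟨hTZ, hTirr, hTinf⟩, hmin⟩ := (wellFounded_lt (α := Closeds X)).has_min {T | P T} hne
  refine ⟨T, hTZ, T.isClosed, hTirr, le_antisymm (H23.TopDim.dim_le fun p => ?_) ?_⟩
  · by_contra hlen
    have h2 : 2 ≤ p.length := by
      by_contra h
      exact hlen (by exact_mod_cast (show p.length ≤ 1 by omega))
    have hlt : p ⟨0, by omega⟩ < p ⟨1, by omega⟩ := p.strictMono (by simp [Fin.lt_def])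
    have hlt' : p ⟨1, by omega⟩ < p ⟨2, by omega⟩ := p.strictMono (by simp [Fin.lt_def])
    let W : Closeds X := ⟨Subtype.val '' (p ⟨1, by omega⟩ : Set ↥(T : Set X)),
      T.isClosed.isClosedEmbedding_subtypeVal.isClosedMap _ (p ⟨1, by omega⟩).isClosed⟩
    have hWT : W < T := by
      refine lt_of_le_of_ne ?_ fun he => ?_
      · rintro _ ⟨y, -, rfl⟩
        exact y.2
      · obtain ⟨-, y, -, hy⟩ := Set.ssubset_iff_exists.1 (show (p ⟨1, by omega⟩ : Set ↥(T : Set X)) ⊂ p ⟨2, by omega⟩ from hlt')
        have : (y : X) ∈ (W : Set X) := by rw [he]; exact y.2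
        obtain ⟨y', hy', hyy⟩ := this
        exact hy (Subtype.ext hyy ▸ hy')
    have hWirr : IsIrreducible (W : Set X) :=
      (p ⟨1, by omega⟩).isIrreducible.image _ continuous_subtype_val.continuousOn
    have hWfin : (W : Set X).Finite := by
      by_contra h
      exact hmin W ⟨fun x hx => hTZ (hWT.le hx), hWirr, h⟩ hWT
    haveI : Finite ↥(W : Set X) := hWfin
    haveI : JacobsonSpace ↥(W : Set X) := .of_isClosedEmbedding W.isClosed.isClosedEmbedding_subtypeVal
    haveI : DiscreteTopology ↥(W : Set X) := inferInstance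
    haveI : IrreducibleSpace ↥(W : Set X) := isIrreducible_iff_irreducibleSpace.1 hWirr
    have hsub : Subsingleton ↥(W : Set X) := ⟨fun a b => by
      by_contra hab
      obtain ⟨z, -, h1, h2⟩ := (IrreducibleSpace.isIrreducible_univ ↥(W : Set X)).isPreirreducible {a} {b}
        (isOpen_discrete _) (isOpen_discrete _) ⟨a, trivial, rfl⟩ ⟨b, trivial, rfl⟩
      exact hab (h1.symm.trans h2)⟩
    obtain ⟨hsub', y, hy1, hy0⟩ := Set.ssubset_iff_exists.1 (show (p ⟨0, by omega⟩ : Set ↥(T : Set X)) ⊂ p ⟨1, by omega⟩ from hlt)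
    obtain ⟨z, hz⟩ := (p ⟨0, by omega⟩).isIrreducible.nonempty
    have := congrArg Subtype.val (Subsingleton.elim (⟨y.1, y, hy1, rfl⟩ : ↥(W : Set X)) ⟨z.1, z, hsub' hz, rfl⟩)
    exact hy0 ((Subtype.ext this : y = z) ▸ hz)
  · by_contra h
    haveI : Nonempty ↥(T : Set X) := hTirr.nonempty.to_subtype
    haveI : NoetherianSpace ↥(T : Set X) := Topology.IsInducing.subtypeVal.noetherianSpace
    have h0 : topologicalKrullDim ↥(T : Set X) ≤ 0 := withBot_le_zero _ (not_le.1 h)
    obtain ⟨hfin, -⟩ := H23.TopDim.finite_discrete_of_dim_le_zero h0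
    exact hTinf (Set.toFinite _)

/-- A globally generated invertible module on a proper scheme that is trivial on no curve is ample. -/
theorem isAmple_of_gg {k : Type u} [Field k] {X : Scheme.{u}} (f : X ⟶ Spec (CommRingCat.of k))
    [IsProper f] {L : X.Modules} (hL : PicF.IsInvertible L) (hgg : Curv2.IsGloballyGenerated L)
    (hC : ∀ C : X.IdealSheafData, IsIntegral C.subscheme → topologicalKrullDim (C.support : Set X) = 1 →
      IsEmpty ((Scheme.Modules.pullback C.subschemeι).obj L ≅ Coh.structureModule C.subscheme)) :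
    CohB1.IsAmple L := by
  refine AVAmple.isAmple_of_nontriv f hL (fun x => ?_) fun {C} j hj hint htriv => ?_
  · obtain ⟨s, hs⟩ := S1664.GenSec.exists_mem_genLocus hL hgg x
    exact ⟨InvX.one s, show x ∈ CohB1.genLocus L _ by rw [AVAmple.ofSect_one]; exact hs⟩
  · haveI := hj
    haveI := hint
    haveI : CompactSpace X := QuasiCompact.compactSpace_of_compactSpace f
    haveI : IsLocallyNoetherian X := LocallyOfFiniteType.isLocallyNoetherian f
    haveI : IsNoetherian X := {}
    haveI : JacobsonSpace X := LocallyOfFiniteType.jacobsonSpace f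
    by_contra hfin
    have hinf : (Set.range j).Infinite := fun h => hfin (by
      haveI := Set.finite_coe_iff.2 h
      exact Finite.of_injective (fun c => (⟨j c, c, rfl⟩ : ↥(Set.range j))) fun a b hab => j.isClosedEmbedding.injective (congrArg Subtype.val hab))
    obtain ⟨T, hTs, hTc, hTirr, hdim⟩ := exists_curve j.isClosedEmbedding.isClosed_range hinf
    obtain ⟨η, hη⟩ := QuasiSober.sober hTirr hTc
    obtain ⟨c, rfl⟩ := hTs hη.mem
    let I := Scheme.IdealSheafData.vanishingIdeal (Closeds.closure {j c})
    have hI : IsIntegral I.subscheme := QCoh.isIntegral_closure_point (j c)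
    have hsupp : (I.support : Set X) = T := by
      rw [Scheme.IdealSheafData.coe_support_vanishingIdeal]
      exact hη.def
    refine (hC I hI (by rw [hsupp]; exact hdim)).false (Nonempty.some ?_)
    haveI := hI
    have hle : j.ker ≤ I.subschemeι.ker := by
      rw [Scheme.IdealSheafData.ker_subschemeι, ← Scheme.IdealSheafData.le_support_iff_le_vanishingIdeal]
      · intro x hx
        show x ∈ (j.ker.support : Set X)
        rw [Scheme.Hom.support_ker]
        exact subset_closure (hTs (hη.def ▸ hx))
    let l := IsClosedImmersion.lift j I.subschemeι hle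
    have hl : l ≫ j = I.subschemeι := IsClosedImmersion.lift_fac _ _ hle
    obtain ⟨e⟩ := htriv
    refine ⟨(Scheme.Modules.pullbackCongr hl.symm).app L ≪≫ ((Scheme.Modules.pullbackComp l j).app L).symm ≪≫
      (Scheme.Modules.pullback l).mapIso e ≪≫ CurveBC.unitIso l⟩

end Groth.Agent.GGAmple
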